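import Groth.Agent.KFlatLib.StalkKFlat
import Groth.Agent.OverExtend.KInjective
import Mathlib.AlgebraicGeometry.Morphisms.Flat
import Mathlib.RingTheory.Flat.Basic

/-!
Pullback of modules along a flat morphism is exact.
-/

set_option autoImplicit false

universe u

open CategoryTheory Limits AlgebraicGeometry

namespace Groth.Agent.Lead.FlatPull

open Groth.Agent.KFlatLib

theorem preservesMonomorphisms_extendScalars {R S : Type u} [CommRing R] [CommRing S] (φ : R →+* S) (hφ : φ.Flat) :
    (ModuleCat.extendScalars.{u, u, u} φ).PreservesMonomorphisms := ⟨fun {M N} g hg => by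
  rw [ModuleCat.mono_iff_injective] at hg ⊢
  letI : Algebra R S := φ.toAlgebra
  haveI : Module.Flat R S := hφ
  exact Module.Flat.lTensor_preserves_injective_linearMap (M := S) g.hom hg⟩

variable {X Y : Scheme.{u}} (f : X ⟶ Y) [Flat f]

theorem preservesMonomorphisms_pullback : (Scheme.Modules.pullback f).PreservesMonomorphisms := ⟨fun {M N} g _ => by
  refine Preadditive.mono_of_isZero_kernel _ (isZero_of_stalks fun x => ?_)
  haveI := preservesMonomorphisms_extendScalars _ (Flat.stalkMap f x)
  haveI : Mono ((SF (f x) ⋙ ModuleCat.extendScalars.{u, u, u} (f.stalkMap x).hom).map g) := by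
    show Mono ((ModuleCat.extendScalars.{u, u, u} (f.stalkMap x).hom).map ((SF (f x)).map g))
    infer_instance
  have h1 : Mono ((Scheme.Modules.pullback f ⋙ SF x).map g) :=
    ((MorphismProperty.monomorphisms _).arrow_mk_iso_iff
      (Arrow.isoMk ((pullStalkNatIso f x).app M) ((pullStalkNatIso f x).app N)
        ((pullStalkNatIso f x).hom.naturality g).symm)).1 ‹_›
  haveI : Mono ((SF x).map ((Scheme.Modules.pullback f).map g)) := h1
  haveI := Functor.PreservesHomology.preservesKernel (SF x) ((Scheme.Modules.pullback f).map g)
  exact (isZero_kernel_of_mono _).of_iso (PreservesKernel.iso (SF x) ((Scheme.Modules.pullback f).map g))⟩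

theorem preservesHomology_pullback : (Scheme.Modules.pullback f).PreservesHomology :=
  haveI := preservesMonomorphisms_pullback f
  OverExtend.KInjective.preservesHomology_of_preservesMonomorphisms (Scheme.Modules.pullbackPushforwardAdjunction f)

theorem isKInjective_pushforward (I : CochainComplex X.Modules ℤ) (hI : I.IsKInjective) :
    CochainComplex.IsKInjective (((Scheme.Modules.pushforward f).mapHomologicalComplex (ComplexShape.up ℤ)).obj I) :=
  haveI := preservesHomology_pullback f
  haveI := hI
  OverExtend.KInjective.isKInjective_map (Scheme.Modules.pullbackPushforwardAdjunction f) I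

end Groth.Agent.Lead.FlatPull
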